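/-
Finite étale covers and a dense quasi-compact open: extension by Hartogs and fpqc descent.
-/
import Groth.Prelude.Def_FEt
import Groth.Agent.TorsorClos.Hartogs
import Groth.Agent.FpqcDesc.Props
import Mathlib.AlgebraicGeometry.Normalization
import Mathlib.AlgebraicGeometry.Limits

set_option autoImplicit false
set_option linter.style.haveILetI false
set_option backward.isDefEq.respectTransparency.types false

universe u

open CategoryTheory CategoryTheory.Limits AlgebraicGeometry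

namespace Groth.Agent.Pi1Desc

/-- Global functions on flat affine schemes over affine opens extend uniquely from the pullback of
`j`. -/
def HExt {Y' Y : Scheme.{u}} (j : Y' ⟶ Y) : Prop :=
  ∀ (T : Scheme.{u}) [IsAffine T] (p : T ⟶ Y) [Flat p] (W : Y.Opens), IsAffineOpen W →
    p ⁻¹ᵁ W = ⊤ → IsIso (pullback.fst p j).appTop

variable {Y' Y : Scheme.{u}} {j : Y' ⟶ Y}

theorem exists_lift {T Z : Scheme.{u}} (O : Z.Opens) (g : T ⟶ Z) (h : g ⁻¹ᵁ O = ⊤) :
    ∃ g' : T ⟶ O, g' ≫ O.ι = g := by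
  refine ⟨IsOpenImmersion.lift O.ι g ?_, IsOpenImmersion.lift_fac _ _ _⟩
  rintro _ ⟨x, rfl⟩
  rw [Scheme.Opens.range_ι]
  exact (h.ge trivial : x ∈ g ⁻¹ᵁ O)

theorem hExt_of_depth (j : Y' ⟶ Y) [IsOpenImmersion j] [QuasiCompact j] [IsLocallyNoetherian Y]
    (hd : ∀ y : Y, y ∉ Set.range j.base →
      (2 : ℕ∞) ≤ LocCoh.depth (Y.presheaf.stalk y) (Y.presheaf.stalk y)) : HExt j := by
  intro T _ p _ W hW hpW
  haveI : IsAffine (W : Scheme.{u}) := hW
  let p' : T ⟶ W := T.topIso.inv ≫ p.resLE W ⊤ hpW.ge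
  have hp' : p' ≫ W.ι = p := by simp [p']
  haveI : Flat p' := inferInstance
  let s := pullback.fst W.ι j
  haveI : IsIso s.appTop := TorsorClos.isIso_appTop_of_isOpenImmersion s fun x hx => by
    have hx' : W.ι x ∉ Set.range j.base := fun h => hx (by
      rw [Scheme.Pullback.range_fst]; exact h)
    haveI : IsIso (W.ι.stalkMap x) := inferInstance
    refine ⟨inferInstance, ?_⟩
    rw [HartogsAffine.depth_congr_ringEquiv (asIso (W.ι.stalkMap x)).commRingCatIsoToRingEquiv]
    exact hd _ hx'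
  haveI : CompactSpace (pullback W.ι j : Scheme.{u}) := QuasiCompact.compactSpace_of_compactSpace s
  haveI : QuasiSeparatedSpace (pullback W.ι j : Scheme.{u}) := quasiSeparatedSpace_of_quasiSeparated s
  have H := IsPullback.of_hasPullback s p'
  have hiso := isIso_pushoutSection_of_isQuasiSeparated_of_flat_right H
    (US := ⊤) (UT := ⊤) (UX := ⊤) (UY := ⊤) (by simp) (by simp) (by simp)
    (isAffineOpen_top _) (isAffineOpen_top _) isCompact_univ
    (isQuasiSeparated_univ_iff.2 inferInstance)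
  have hpo : IsPushout s.appTop p'.appTop (pullback.fst s p').appTop
      (pullback.snd s p').appTop := by
    have h0 := (isIso_pushoutSection_iff ..).1 hiso
    simp only [TorsorClos.appLE_top'] at h0
    exact h0
  haveI : IsIso (pullback.snd s p').appTop := hpo.isIso_inr_of_isIso
  have e : pullback.fst p j = (pullback.congrHom hp'.symm rfl ≪≫
      (pullbackRightPullbackFstIso W.ι j p').symm ≪≫ pullbackSymmetry p' s).hom ≫
        pullback.snd s p' := by simp [s, pullback.map, pullback.lift_fst]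
  rw [e, Scheme.Hom.comp_appTop]
  haveI : ∀ {A B : Scheme.{u}} (a : A ≅ B), IsIso a.hom.appTop := fun a =>
    inferInstanceAs (IsIso (a.hom.app ⊤))
  infer_instance

theorem exists_ext {P T Z : Scheme.{u}} [IsAffine T] [IsAffine Z] (r : P ⟶ T) [IsIso r.appTop]
    (θ : P ⟶ Z) : ∃! g : T ⟶ Z, r ≫ g = θ := by
  refine ⟨T.toSpecΓ ≫ Spec.map (θ.appTop ≫ inv r.appTop) ≫ Z.isoSpec.inv, ?_, fun g hg => ?_⟩
  · show r ≫ _ = θ
    rw [Scheme.toSpecΓ_naturality_assoc, ← Spec.map_comp_assoc, Category.assoc, IsIso.inv_hom_id,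
      Category.comp_id, ← Scheme.toSpecΓ_naturality_assoc]
    simp [Scheme.isoSpec]
  · subst hg
    rw [Scheme.Hom.comp_appTop, Category.assoc, IsIso.hom_inv_id, Category.comp_id,
      ← Scheme.toSpecΓ_naturality_assoc]
    simp [Scheme.isoSpec]

/-- Maps from a flat affine scheme over an affine open to a scheme affine over `Y`. -/
theorem existsUnique_affine (hj : HExt j) {T : Scheme.{u}} [IsAffine T] (p : T ⟶ Y) [Flat p]
    (W : Y.Opens) (hW : IsAffineOpen W) (hp : p ⁻¹ᵁ W = ⊤) {Z : Scheme.{u}} (q : Z ⟶ Y)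
    [IsAffineHom q] (θ : pullback p j ⟶ Z) (hθ : θ ≫ q = pullback.fst p j ≫ p) :
    ∃! g : T ⟶ Z, g ≫ q = p ∧ pullback.fst p j ≫ g = θ := by
  haveI : IsIso (pullback.fst p j).appTop := hj T p W hW hp
  haveI : IsAffine (W : Scheme.{u}) := hW
  haveI : IsAffine (q ⁻¹ᵁ W : Z.Opens) := hW.preimage q
  obtain ⟨θ', hθ'⟩ := exists_lift (q ⁻¹ᵁ W) θ (by
    rw [← Scheme.Hom.comp_preimage, hθ, Scheme.Hom.comp_preimage, hp, Scheme.Hom.preimage_top])
  obtain ⟨g', hg', huniq⟩ := exists_ext (pullback.fst p j) θ'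
  obtain ⟨p', hp'⟩ := exists_lift W p hp
  have hq : g' ≫ (q ∣_ W) = p' := by
    apply (exists_ext (pullback.fst p j) (pullback.fst p j ≫ p')).unique ?_ rfl
    rw [← cancel_mono W.ι, Category.assoc, Category.assoc, morphismRestrict_ι, reassoc_of% hg',
      reassoc_of% hθ', hθ, Category.assoc, hp']
  refine ⟨g' ≫ (q ⁻¹ᵁ W).ι, ⟨?_, by rw [reassoc_of% hg', hθ']⟩, fun g ⟨hgq, hgθ⟩ => ?_⟩
  · rw [Category.assoc, ← morphismRestrict_ι, reassoc_of% hq, hp']
  · obtain ⟨g'', hg''⟩ := exists_lift (q ⁻¹ᵁ W) g (by rw [← Scheme.Hom.comp_preimage, hgq, hp])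
    rw [← hg'', huniq g'' ((cancel_mono (q ⁻¹ᵁ W).ι).mp (by
      rw [Category.assoc, hg'', hgθ, hθ']))]

theorem exists_affine_le {T : Scheme.{u}} (p : T ⟶ Y) (x : T) :
    ∃ (O : T.Opens) (W : Y.Opens), x ∈ O ∧ IsAffineOpen O ∧ IsAffineOpen W ∧
      (O.ι ≫ p) ⁻¹ᵁ W = ⊤ := by
  obtain ⟨W, hW, hxW, -⟩ := exists_isAffineOpen_mem_and_subset (X := Y) (x := p x) (U := ⊤) trivial
  obtain ⟨O, hO, hxO, hle⟩ := exists_isAffineOpen_mem_and_subset (X := T) (x := x) (U := p ⁻¹ᵁ W) hxW
  refine ⟨O, W, hxO, hO, hW, ?_⟩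
  ext y
  simp only [Scheme.Hom.comp_preimage, TopologicalSpace.Opens.coe_top, Set.mem_univ, iff_true]
  exact hle y.2

theorem hom_ext (hj : HExt j) {T Z : Scheme.{u}} (p : T ⟶ Y) [Flat p] (q : Z ⟶ Y) [IsAffineHom q]
    (g₁ g₂ : T ⟶ Z) (h₁ : g₁ ≫ q = p) (h₂ : g₂ ≫ q = p)
    (e : pullback.fst p j ≫ g₁ = pullback.fst p j ≫ g₂) : g₁ = g₂ := by
  choose O W hxO hO hW hOW using exists_affine_le p
  refine Scheme.Cover.hom_ext (T.openCoverOfIsOpenCover O
    (eq_top_iff.mpr fun x _ => TopologicalSpace.Opens.mem_iSup.mpr ⟨x, hxO x⟩)) _ _ fun x => ?_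
  haveI : IsAffine (O x : T.Opens) := hO x
  have eθ : pullback.fst ((O x).ι ≫ p) j ≫ (O x).ι ≫ g₁ =
      pullback.fst ((O x).ι ≫ p) j ≫ (O x).ι ≫ g₂ := by
    let ε : pullback ((O x).ι ≫ p) j ⟶ pullback p j := pullback.lift
      (pullback.fst _ _ ≫ (O x).ι) (pullback.snd _ _)
      (by rw [Category.assoc, pullback.condition])
    have hε : ε ≫ pullback.fst p j = pullback.fst _ _ ≫ (O x).ι := pullback.lift_fst _ _ _
    rw [← reassoc_of% hε, ← reassoc_of% hε, e]
  have k₁ : ((O x).ι ≫ g₁) ≫ q = (O x).ι ≫ p := by rw [Category.assoc, h₁]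
  have k₂ : ((O x).ι ≫ g₂) ≫ q = (O x).ι ≫ p := by rw [Category.assoc, h₂]
  exact (existsUnique_affine hj ((O x).ι ≫ p) (W x) (hW x) (hOW x) q
      (pullback.fst _ _ ≫ (O x).ι ≫ g₁) (by rw [Category.assoc, k₁])).unique
    ⟨k₁, rfl⟩ ⟨k₂, eθ.symm⟩

theorem exists_hom (hj : HExt j) {T Z : Scheme.{u}} (p : T ⟶ Y) [Flat p] (q : Z ⟶ Y)
    [IsAffineHom q] (θ : pullback p j ⟶ Z) (hθ : θ ≫ q = pullback.fst p j ≫ p) :
    ∃ g : T ⟶ Z, g ≫ q = p ∧ pullback.fst p j ≫ g = θ := by
  choose O W hxO hO hW hOW using exists_affine_le p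
  have hcov : TopologicalSpace.IsOpenCover O :=
    eq_top_iff.mpr fun x _ => TopologicalSpace.Opens.mem_iSup.mpr ⟨x, hxO x⟩
  let 𝒰 := T.openCoverOfIsOpenCover O hcov
  have loc : ∀ x, ∃ g : (O x : Scheme.{u}) ⟶ Z, g ≫ q = (O x).ι ≫ p ∧
      ∀ (R : Scheme.{u}) (a : R ⟶ O x) (b : R ⟶ Y') (h : (a ≫ (O x).ι) ≫ p = b ≫ j),
        a ≫ g = pullback.lift (a ≫ (O x).ι) b h ≫ θ := by
    intro x
    haveI : IsAffine (O x : T.Opens) := hO x
    let ε : pullback ((O x).ι ≫ p) j ⟶ pullback p j := pullback.lift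
      (pullback.fst _ _ ≫ (O x).ι) (pullback.snd _ _)
      (by rw [Category.assoc, pullback.condition])
    obtain ⟨g, ⟨hg, hgθ⟩, -⟩ := existsUnique_affine hj ((O x).ι ≫ p) (W x) (hW x) (hOW x) q
      (ε ≫ θ) (by rw [Category.assoc, hθ, pullback.lift_fst_assoc, Category.assoc])
    refine ⟨g, hg, fun R a b h => ?_⟩
    let l : R ⟶ pullback ((O x).ι ≫ p) j := pullback.lift a b (by simpa using h)
    have hl : l ≫ pullback.fst _ _ = a := pullback.lift_fst _ _ _
    refine (hl =≫ g).symm.trans ?_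
    rw [Category.assoc, hgθ, ← Category.assoc]
    congr 1
    apply pullback.hom_ext <;> simp only [l, ε, Category.assoc, pullback.lift_fst, pullback.lift_snd, pullback.lift_fst_assoc, pullback.lift_snd_assoc]
  choose g hg hgθ using loc
  have agree : ∀ x y, pullback.fst (O x).ι (O y).ι ≫ g x = pullback.snd (O x).ι (O y).ι ≫ g y := by
    intro x y
    let o : pullback (O x).ι (O y).ι ⟶ T := pullback.fst (O x).ι (O y).ι ≫ (O x).ι
    have ho : pullback.snd (O x).ι (O y).ι ≫ (O y).ι = o := pullback.condition.symm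
    refine hom_ext hj (o ≫ p) q _ _ (by rw [Category.assoc, hg, Category.assoc]) ?_ ?_
    · rw [Category.assoc, hg, ← ho, Category.assoc]
    · have e₁ : (pullback.fst (o ≫ p) j ≫ pullback.fst (O x).ι (O y).ι) ≫ (O x).ι =
          pullback.fst (o ≫ p) j ≫ o := Category.assoc _ _ _
      have e₂ : (pullback.fst (o ≫ p) j ≫ pullback.snd (O x).ι (O y).ι) ≫ (O y).ι =
          pullback.fst (o ≫ p) j ≫ o :=
        (Category.assoc _ _ _).trans (congrArg _ ho)
      have c : (pullback.fst (o ≫ p) j ≫ o) ≫ p = pullback.snd (o ≫ p) j ≫ j :=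
        (Category.assoc _ _ _).trans pullback.condition
      rw [← Category.assoc, ← Category.assoc,
        hgθ x _ _ (pullback.snd _ _) (by rw [e₁]; exact c),
        hgθ y _ _ (pullback.snd _ _) (by rw [e₂]; exact c)]
      congr 1
      apply pullback.hom_ext <;> simp only [pullback.lift_fst, pullback.lift_snd, e₁, e₂]
  refine ⟨Scheme.Cover.glueMorphisms 𝒰 g agree, ?_, ?_⟩
  · refine Scheme.Cover.hom_ext 𝒰 _ _ fun x => ?_
    rw [Scheme.Cover.ι_glueMorphisms_assoc]
    exact hg x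
  · refine Scheme.Cover.hom_ext (𝒰.pullback₁ (pullback.fst p j)) _ _ fun x => ?_
    show pullback.fst (pullback.fst p j) (O x).ι ≫ _ = pullback.fst (pullback.fst p j) (O x).ι ≫ _
    rw [pullback.condition_assoc]
    erw [Scheme.Cover.ι_glueMorphisms 𝒰 g agree x]
    rw [hgθ x _ (pullback.snd _ _) (pullback.fst _ _ ≫ pullback.snd p j) (by
      rw [Category.assoc, Category.assoc, ← pullback.condition, ← pullback.condition_assoc])]
    congr 1
    apply pullback.hom_ext <;>
      simp only [pullback.lift_fst, pullback.lift_snd, Category.assoc, pullback.condition]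

theorem faithful (hj : HExt j) : (FEt.restrict j).Faithful where
  map_injective {A B} φ ψ h := by
    haveI := A.prop.2
    haveI := B.prop.1
    apply MorphismProperty.Over.Hom.ext
    refine hom_ext hj A.hom B.hom _ _ (MorphismProperty.Over.w φ) (MorphismProperty.Over.w ψ) ?_
    have := congr($(h).left ≫ pullback.fst B.hom j)
    simp only [FEt.restrict, MorphismProperty.Over.pullback_map_left] at this
    erw [pullback.lift_fst, pullback.lift_fst] at this
    exact this

theorem full (hj : HExt j) : (FEt.restrict j).Full where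
  map_surjective {A B} θ := by
    haveI := A.prop.2
    haveI := B.prop.1
    have w : θ.left ≫ pullback.snd B.hom j = pullback.snd A.hom j := MorphismProperty.Over.w θ
    let φ : pullback A.hom j ⟶ pullback B.hom j := θ.left
    have w' : φ ≫ pullback.snd B.hom j = pullback.snd A.hom j := w
    obtain ⟨g, hg, hgθ⟩ := exists_hom hj A.hom B.hom (φ ≫ pullback.fst B.hom j) (by
      rw [Category.assoc, pullback.condition, reassoc_of% w', pullback.condition])
    refine ⟨MorphismProperty.Over.homMk g hg trivial, ?_⟩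
    apply MorphismProperty.Over.Hom.ext
    show pullback.lift (pullback.fst A.hom j ≫ g) (pullback.snd A.hom j) _ = φ
    apply pullback.hom_ext
    · rw [pullback.lift_fst, hgθ]
    · rw [pullback.lift_snd, w']

end Groth.Agent.Pi1Desc
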