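/-
Finite étale covers and a quasi-compact open: essential surjectivity by fpqc descent.
-/
import Groth.Agent.Pi1Desc.Main

set_option autoImplicit false
set_option linter.style.haveILetI false
set_option backward.isDefEq.respectTransparency.types false

universe u

open CategoryTheory CategoryTheory.Limits AlgebraicGeometry

namespace Groth.Agent.Pi1Desc

variable {Y' Y : Scheme.{u}} {j : Y' ⟶ Y}

/-- A morphism of affine schemes and its ring map have the same properties. -/
theorem cancel_appTop {P : MorphismProperty Scheme.{u}} [P.RespectsIso] {A B : Scheme.{u}}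
    [IsAffine A] [IsAffine B] (f : A ⟶ B) : P (Spec.map f.appTop) ↔ P f := by
  rw [← P.cancel_left_of_respectsIso A.isoSpec.hom, Scheme.isoSpec_hom,
    ← Scheme.toSpecΓ_naturality]
  exact P.cancel_right_of_respectsIso f B.toSpecΓ

theorem cancel_app {P : MorphismProperty Scheme.{u}} [P.RespectsIso] {A B : Scheme.{u}}
    (f : A ⟶ B) [IsAffineHom f] (W : B.Opens) (hW : IsAffineOpen W) :
    P (Spec.map (f.app W)) ↔ P (f ∣_ W) := by
  haveI : IsAffine (W : Scheme.{u}) := hW
  haveI : IsAffine (f ⁻¹ᵁ W : A.Opens) := hW.preimage f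
  have e : (f ∣_ W) ≫ hW.isoSpec.hom = (hW.preimage f).isoSpec.hom ≫ Spec.map (f.app W) := by
    rw [← cancel_mono hW.fromSpec, Category.assoc, Category.assoc, Scheme.Hom.app_eq_appLE,
      IsAffineOpen.SpecMap_appLE_fromSpec f hW (hW.preimage f) le_rfl]
    simp [IsAffineOpen.isoSpec_hom]
  rw [← P.cancel_left_of_respectsIso (hW.preimage f).isoSpec.hom, ← e]
  exact P.cancel_right_of_respectsIso _ _

theorem mem_essImage [IsOpenImmersion j] [QuasiCompact j] (E : FEt.Cat Y')
    (H : ∀ (W : Y.Opens), IsAffineOpen W → FEt.prop (Spec.map ((E.hom ≫ j).app W))) :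
    (FEt.restrict j).essImage E := by
  haveI := E.prop.1
  haveI := E.prop.2
  let f : E.left ⟶ Y := E.hom ≫ j
  haveI : QuasiCompact f := inferInstanceAs (QuasiCompact (E.hom ≫ j))
  haveI : QuasiSeparated f := inferInstanceAs (QuasiSeparated (E.hom ≫ j))
  let q := f.fromNormalization
  haveI : IsAffineHom q := inferInstance
  haveI : IsZariskiLocalAtTarget FEt.prop.{u} := inferInstance
  have hq : FEt.prop q := by
    refine (IsZariskiLocalAtTarget.iff_of_iSup_eq_top (P := FEt.prop) _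
      (iSup_affineOpens_eq_top Y)).mpr fun W => ?_
    refine (cancel_app q W.1 W.2).mp ?_
    let _ := (f.app W.1).hom.toAlgebra
    have hC := H W.1 W.2
    have htop : integralClosure Γ(Y, W.1) Γ(E.left, f ⁻¹ᵁ W.1) = ⊤ := by
      rw [integralClosure_eq_top_iff, ← algebraMap_isIntegral_iff]
      exact RingHom.Finite.to_isIntegral ((IsFinite.SpecMap_iff _).mp hC.1)
    let v : CommRingCat.of (integralClosure Γ(Y, W.1) Γ(E.left, f ⁻¹ᵁ W.1)) ⟶
        Γ(E.left, f ⁻¹ᵁ W.1) :=
      CommRingCat.ofHom (integralClosure Γ(Y, W.1) Γ(E.left, f ⁻¹ᵁ W.1)).val.toRingHom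
    haveI : IsIso v := by
      rw [ConcreteCategory.isIso_iff_bijective]
      exact ⟨Subtype.val_injective, fun x => ⟨⟨x, htop ▸ Algebra.mem_top⟩, rfl⟩⟩
    have e : q.app W.1 ≫ (f.normalizationObjIso W.2).hom ≫ v = f.app W.1 := by
      rw [f.fromNormalization_app W.2, Category.assoc, Iso.inv_hom_id_assoc]
      rfl
    rw [← FEt.prop.cancel_left_of_respectsIso (Spec.map ((f.normalizationObjIso W.2).hom ≫ v)),
      ← Spec.map_comp, e]
    exact hC
  let Z : FEt.Cat Y := MorphismProperty.Over.mk ⊤ q hq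
  let s : E.left ⟶ pullback f j := pullback.lift (𝟙 _) E.hom (Category.id_comp _)
  have hs : s ≫ pullback.fst f j = 𝟙 _ := pullback.lift_fst _ _ _
  have hs' : s ≫ pullback.snd f j = E.hom := pullback.lift_snd _ _ _
  haveI hfst : IsIso (pullback.fst f j) :=
    ⟨s, by
      apply pullback.hom_ext
      · rw [Category.assoc, hs, Category.comp_id, Category.id_comp]
      · rw [← cancel_mono j, Category.assoc, Category.assoc, reassoc_of% hs', Category.id_comp]
        exact pullback.condition, hs⟩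
  have hsnd : pullback.snd f j = pullback.fst f j ≫ E.hom := by
    rw [← cancel_mono j]; simp [f, ← pullback.condition]
  haveI : IsIntegralHom (pullback.snd f j) := by rw [hsnd]; infer_instance
  let Φ : E.left ⟶ pullback q j :=
    inv (pullback.fst f j) ≫ (pullback.snd f j).toNormalization ≫ f.normalizationPullback j
  haveI : IsIso (pullback.snd f j).toNormalization := inferInstance
  haveI : Smooth j := inferInstance
  haveI : IsIso (f.normalizationPullback j) := inferInstance
  haveI : IsIso Φ := inferInstanceAs (IsIso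
    (inv (pullback.fst f j) ≫ (pullback.snd f j).toNormalization ≫ f.normalizationPullback j))
  have hΦ : Φ ≫ pullback.snd q j = E.hom := by
    show (inv (pullback.fst f j) ≫ (pullback.snd f j).toNormalization ≫
      f.normalizationPullback j) ≫ pullback.snd f.fromNormalization j = E.hom
    rw [Category.assoc, Category.assoc, Scheme.Hom.normalizationPullback_snd,
      Scheme.Hom.toNormalization_fromNormalization, hsnd, IsIso.inv_hom_id_assoc]
  let e : E.left ≅ pullback q j := asIso Φ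
  exact ⟨Z, ⟨(MorphismProperty.Over.isoMk e hΦ :
    E ≅ (FEt.restrict j).obj Z).symm⟩⟩

theorem essSurj [IsOpenImmersion j] [QuasiCompact j]
    (H : ∀ (E : FEt.Cat Y') (W : Y.Opens), IsAffineOpen W →
      FEt.prop (Spec.map ((E.hom ≫ j).app W))) : (FEt.restrict j).EssSurj where
  mem_essImage E := Pi1Desc.mem_essImage E (H E)

/-- fpqc descent along a finite jointly surjective flat family of affine schemes. -/
theorem of_family {P : MorphismProperty Scheme.{u}} [IsZariskiLocalAtTarget P]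
    [P.DescendsAlong FpqcDesc.FPQC] {ι : Type u} [Finite ι] {A C : CommRingCat.{u}}
    (B R : ι → CommRingCat.{u}) (φ : A ⟶ C) (a : ∀ i, A ⟶ B i) (r : ∀ i, B i ⟶ R i)
    (l : ∀ i, C ⟶ R i) (hpo : ∀ i, IsPushout φ (a i) (l i) (r i))
    [∀ i, Flat (Spec.map (a i))] (hsurj : ∀ z, ∃ i, z ∈ Set.range (Spec.map (a i)).base)
    (hr : ∀ i, P (Spec.map (r i))) : P (Spec.map φ) := by
  let sd : (∐ fun i => Spec (B i)) ⟶ Spec A := Sigma.desc fun i => Spec.map (a i)
  haveI : QuasiCompact sd := by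
    haveI : CompactSpace (∐ fun i => Spec (B i) : Scheme.{u}) := inferInstance
    exact (quasiCompact_iff_compactSpace sd).mpr inferInstance
  haveI : Surjective sd := ⟨fun z => by
    obtain ⟨i, y, hy⟩ := hsurj z
    refine ⟨(Sigma.ι (fun i => Spec (B i)) i) y, ?_⟩
    rw [← Scheme.Hom.comp_apply, Sigma.ι_desc]
    exact hy⟩
  refine MorphismProperty.of_pullback_fst_of_descendsAlong (P := P) (Q := FpqcDesc.FPQC)
    (f := sd) ⟨⟨inferInstance, inferInstance⟩, inferInstance⟩ ?_
  rw [IsZariskiLocalAtTarget.iff_of_openCover (P := P) (sigmaOpenCover (fun i => Spec (B i)))]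
  intro i
  show P (pullback.snd (pullback.fst sd (Spec.map φ)) (Sigma.ι (fun i => Spec (B i)) i))
  have h₁ := ((IsPullback.of_hasPullback (pullback.fst sd (Spec.map φ))
    (Sigma.ι (fun i => Spec (B i)) i)).paste_horiz
    (IsPullback.of_hasPullback sd (Spec.map φ)).flip).flip
  rw [show Sigma.ι (fun i => Spec (B i)) i ≫ sd = Spec.map (a i) from Sigma.ι_desc _ _] at h₁
  have h₂ : IsPullback (Spec.map (r i)) (Spec.map (l i)) (Spec.map (a i)) (Spec.map φ) :=
    (isPullback_SpecMap_of_isPushout _ _ _ _ (hpo i)).flip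
  rw [← IsPullback.isoIsPullback_hom_fst _ _ h₁ h₂, P.cancel_left_of_respectsIso]
  exact hr i

theorem piece_of_iso [IsOpenImmersion j] [QuasiCompact j] (hj : HExt j) (E : FEt.Cat Y') (W : Y.Opens)
    (hW : IsAffineOpen W) {T T' : Scheme.{u}} [IsAffine T] (t : T ⟶ Y) [Flat t] (jT : T' ⟶ T)
    (κ : T' ⟶ Y') (sq : IsPullback κ jT j t) (ht : t ⁻¹ᵁ W = ⊤) (D : FEt.Cat T)
    (eD : (FEt.restrict jT).obj D ≅ (FEt.restrict κ).obj E) :
    ∃ (R : CommRingCat.{u}) (l : Γ(E.left, (E.hom ≫ j) ⁻¹ᵁ W) ⟶ R) (r : Γ(T, ⊤) ⟶ R),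
      IsPushout ((E.hom ≫ j).app W) (t.appLE W ⊤ ht.ge) l r ∧ FEt.prop (Spec.map r) := by
  haveI := E.prop.1
  haveI := E.prop.2
  let f : E.left ⟶ Y := E.hom ≫ j
  haveI : QuasiCompact f := inferInstanceAs (QuasiCompact (E.hom ≫ j))
  haveI : QuasiSeparated f := inferInstanceAs (QuasiSeparated (E.hom ≫ j))
  let g : pullback E.hom κ ⟶ E.left := pullback.fst E.hom κ
  let iY : pullback E.hom κ ⟶ T := pullback.snd E.hom κ ≫ jT
  have H : IsPullback g iY f t := (IsPullback.of_hasPullback E.hom κ).paste_vert sq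
  have hUY : (⊤ : (pullback E.hom κ).Opens) = g ⁻¹ᵁ (f ⁻¹ᵁ W) ⊓ iY ⁻¹ᵁ ⊤ := by
    rw [← Scheme.Hom.comp_preimage, H.w, Scheme.Hom.comp_preimage, ht, Scheme.Hom.preimage_top,
      inf_idem]
  have hiso := isIso_pushoutSection_of_isQuasiSeparated_of_flat_right H
    (US := W) (UT := ⊤) (UX := f ⁻¹ᵁ W) (UY := ⊤) ht.ge le_rfl hUY
    hW (isAffineOpen_top _) (f.isCompact_preimage hW.isCompact)
    (f.isQuasiSeparated_preimage hW.isQuasiSeparated)
  have hpo := (isIso_pushoutSection_iff ..).1 hiso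
  rw [TorsorClos.appLE_top', ← Scheme.Hom.app_eq_appLE] at hpo
  refine ⟨_, _, _, hpo, ?_⟩
  haveI := D.prop.1
  haveI := D.prop.2
  let dh : D.left ⟶ T := D.hom
  haveI : IsFinite dh := D.prop.1
  haveI : IsAffine D.left := isAffine_of_isAffineHom dh
  let el : pullback E.hom κ ≅ pullback D.hom jT :=
    (MorphismProperty.Over.forget FEt.prop ⊤ T' ⋙ Over.forget T').mapIso
      eD.symm
  have hel : el.hom ≫ pullback.snd D.hom jT = pullback.snd E.hom κ :=
    MorphismProperty.Over.w eD.inv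
  have hiY : iY = el.hom ≫ pullback.fst D.hom jT ≫ D.hom := by
    show pullback.snd E.hom κ ≫ jT = _
    rw [pullback.condition, reassoc_of% hel]
  have H' : IsPullback (pullback.fst D.hom jT) (pullback.snd D.hom jT ≫ κ) (D.hom ≫ t) j :=
    (IsPullback.of_hasPullback D.hom jT).paste_vert sq.flip
  haveI : IsIso (pullback.fst D.hom jT).appTop := by
    haveI := hj D.left (D.hom ≫ t) W hW (by rw [Scheme.Hom.comp_preimage, ht, Scheme.Hom.preimage_top])
    rw [← H'.isoPullback_hom_fst, Scheme.Hom.comp_appTop]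
    haveI : IsIso H'.isoPullback.hom.appTop := inferInstanceAs (IsIso (H'.isoPullback.hom.app ⊤))
    infer_instance
  haveI : IsIso el.hom.appTop := inferInstanceAs (IsIso (el.hom.app ⊤))
  show FEt.prop (Spec.map iY.appTop)
  rw [hiY, Scheme.Hom.comp_appTop, Scheme.Hom.comp_appTop, Spec.map_comp, Spec.map_comp,
    FEt.prop.cancel_left_of_respectsIso, FEt.prop.cancel_left_of_respectsIso]
  exact (cancel_appTop dh).mpr D.prop

theorem piece [IsOpenImmersion j] [QuasiCompact j] (hj : HExt j) (E : FEt.Cat Y') (W : Y.Opens)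
    (hW : IsAffineOpen W) {T T' : Scheme.{u}} [IsAffine T] (t : T ⟶ Y) [Flat t] (jT : T' ⟶ T)
    (κ : T' ⟶ Y') (sq : IsPullback κ jT j t) (ht : t ⁻¹ᵁ W = ⊤) [(FEt.restrict jT).EssSurj] :
    ∃ (R : CommRingCat.{u}) (l : Γ(E.left, (E.hom ≫ j) ⁻¹ᵁ W) ⟶ R) (r : Γ(T, ⊤) ⟶ R),
      IsPushout ((E.hom ≫ j).app W) (t.appLE W ⊤ ht.ge) l r ∧ FEt.prop (Spec.map r) :=
  piece_of_iso hj E W hW t jT κ sq ht ((FEt.restrict jT).objPreimage ((FEt.restrict κ).obj E))
    ((FEt.restrict jT).objObjPreimageIso _)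

end Groth.Agent.Pi1Desc
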